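import Mathlib.RingTheory.Flat.Stability
import Mathlib.RingTheory.Flat.FaithfullyFlat.Basic
import Mathlib.LinearAlgebra.TensorProduct.Tower

/-!
# Flatness and faithful flatness of a tensor product over a smaller ring
-/

set_option autoImplicit false

universe u

open TensorProduct

namespace GrothLib.FlatTensor

variable {C B : Type u} [CommRing C] [CommRing B] [Algebra C B]
  {M G : Type u} [AddCommGroup M] [Module B M] [Module C M] [IsScalarTower C B M]
  [AddCommGroup G] [Module B G] [Module C G] [IsScalarTower C B G]

theorem lTensor_conj {N N' : Type u} [AddCommGroup N] [AddCommGroup N'] [Module C N] [Module C N']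
    (f : N →ₗ[C] N') (z : (M ⊗[B] G) ⊗[C] N) :
    AlgebraTensorModule.assoc C B B M G N' (f.lTensor (M ⊗[B] G) z) =
      (AlgebraTensorModule.lTensor B G f).lTensor M (AlgebraTensorModule.assoc C B B M G N z) := by
  induction z using TensorProduct.induction_on with
  | zero => simp
  | tmul w n =>
    induction w using TensorProduct.induction_on with
    | zero => simp
    | tmul m g => rfl
    | add a b ha hb => rw [add_tmul, map_add, map_add, ha, hb, map_add, map_add]
  | add a b ha hb => rw [map_add, map_add, ha, hb, map_add, map_add]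

/-- A module flat over `B` tensored with a module flat over `C` is flat over `C`. -/
theorem flat_tensor [Module.Flat B M] [Module.Flat C G] : Module.Flat C (M ⊗[B] G) := by
  rw [Module.Flat.iff_lTensor_preserves_injective_linearMapₛ]
  intro N N' _ _ _ _ f hf
  let : AddCommGroup N := Module.addCommMonoidToAddCommGroup C
  let : AddCommGroup N' := Module.addCommMonoidToAddCommGroup C
  intro a b hab
  have h1 : Function.Injective ((AlgebraTensorModule.lTensor B G f).lTensor M) :=
    Module.Flat.lTensor_preserves_injective_linearMap _ (Module.Flat.lTensor_preserves_injective_linearMap f hf)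
  apply (AlgebraTensorModule.assoc C B B M G N).injective
  apply h1
  rw [← lTensor_conj, ← lTensor_conj, hab]

/-- Flatness over `C` descends along a faithfully flat tensor factor. -/
theorem flat_of_flat_tensor [Module.FaithfullyFlat B M] [Module.Flat C (M ⊗[B] G)] : Module.Flat C G := by
  rw [Module.Flat.iff_lTensor_preserves_injective_linearMapₛ]
  intro N N' _ _ _ _ f hf
  let : AddCommGroup N := Module.addCommMonoidToAddCommGroup C
  let : AddCommGroup N' := Module.addCommMonoidToAddCommGroup C
  have h0 := Module.Flat.lTensor_preserves_injective_linearMap (M := M ⊗[B] G) f hf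
  refine (Module.FaithfullyFlat.lTensor_injective_iff_injective B M (AlgebraTensorModule.lTensor B G f)).1 ?_
  intro a b hab
  obtain ⟨a, rfl⟩ := (AlgebraTensorModule.assoc C B B M G N).surjective a
  obtain ⟨b, rfl⟩ := (AlgebraTensorModule.assoc C B B M G N).surjective b
  rw [← lTensor_conj, ← lTensor_conj] at hab
  exact congrArg _ (h0 ((AlgebraTensorModule.assoc C B B M G N').injective hab))

/-- If `I G = G` then `I (M ⊗ G) = M ⊗ G`. -/
theorem smul_top_tensor {I : Ideal C} (h : I • (⊤ : Submodule C G) = ⊤) :
    I • (⊤ : Submodule C (M ⊗[B] G)) = ⊤ := by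
  refine eq_top_iff.2 fun z _ => ?_
  induction z using TensorProduct.induction_on with
  | zero => exact zero_mem _
  | tmul m g =>
    have hg : g ∈ I • (⊤ : Submodule C G) := h.ge Submodule.mem_top
    refine Submodule.smul_induction_on hg (fun c hc n _ => ?_)
      (fun a b ha hb => by rw [TensorProduct.tmul_add]; exact add_mem ha hb)
    · have : m ⊗ₜ[B] (c • n) = c • (m ⊗ₜ[B] n) := by
        rw [← algebraMap_smul B c n, TensorProduct.tmul_smul, algebraMap_smul]
      rw [this]
      exact Submodule.smul_mem_smul hc Submodule.mem_top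
  | add a b ha hb => exact add_mem (ha Submodule.mem_top) (hb Submodule.mem_top)

/-- If `I G ≠ G` and `M` is faithfully flat then `I (M ⊗ G) ≠ M ⊗ G`. -/
theorem smul_top_tensor_ne_top [Module.FaithfullyFlat B M] {I : Ideal C}
    (h : I • (⊤ : Submodule C G) ≠ ⊤) : I • (⊤ : Submodule C (M ⊗[B] G)) ≠ ⊤ := by
  let IG : Submodule B G :=
    { (I • (⊤ : Submodule C G)).toAddSubmonoid with
      smul_mem' := fun b x hx0 => by
        have hx : x ∈ I • (⊤ : Submodule C G) := hx0
        change b • x ∈ I • (⊤ : Submodule C G)
        clear hx0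
        refine Submodule.smul_induction_on hx (fun c hc n _ => ?_)
          (fun a a' ha ha' => by rw [smul_add]; exact add_mem ha ha')
        rw [smul_comm]
        exact Submodule.smul_mem_smul hc Submodule.mem_top }
  have hne : IG ≠ ⊤ := fun e => h (eq_top_iff.2 fun x _ =>
    show x ∈ IG from e ▸ Submodule.mem_top)
  have : Nontrivial (G ⧸ IG) := Submodule.Quotient.nontrivial_iff.2 hne
  have hN : Nontrivial (M ⊗[B] (G ⧸ IG)) := inferInstance
  intro htop
  obtain ⟨z, hz⟩ := exists_ne (0 : M ⊗[B] (G ⧸ IG))
  obtain ⟨w, rfl⟩ := LinearMap.lTensor_surjective M (Submodule.mkQ_surjective IG) z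
  refine hz ?_
  have hw : w ∈ I • (⊤ : Submodule C (M ⊗[B] G)) := htop.ge Submodule.mem_top
  clear hz
  refine Submodule.smul_induction_on hw (fun c hc n hn => ?_)
    (fun a b ha hb => by rw [map_add, ha, hb, add_zero])
  · clear hn
    induction n using TensorProduct.induction_on with
    | zero => simp
    | tmul m g =>
      have : c • (m ⊗ₜ[B] g) = m ⊗ₜ[B] (c • g) := by
        rw [← algebraMap_smul B c g, TensorProduct.tmul_smul, algebraMap_smul]
      rw [this, LinearMap.lTensor_tmul, Submodule.mkQ_apply,
        (Submodule.Quotient.mk_eq_zero IG).2 (show c • g ∈ I • (⊤ : Submodule C G) from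
          Submodule.smul_mem_smul hc Submodule.mem_top), TensorProduct.tmul_zero]
    | add a b ha hb => rw [smul_add, map_add, ha, hb, add_zero]

end GrothLib.FlatTensor
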