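import Groth.Agent.Lib.FlatDesc.Basic
import Groth.Agent.Lib.FlatTensor.Algebra
import Groth.Agent.Lib.Ref1.Tensor
import Mathlib.LinearAlgebra.TensorProduct.Tower

/-!
# The stalk of `M ⊗ q^*G` over a further base
-/

set_option autoImplicit false
set_option backward.isDefEq.respectTransparency false
set_option backward.isDefEq.respectTransparency.types false

universe u

open CategoryTheory CategoryTheory.Limits AlgebraicGeometry TensorProduct

namespace GrothLib.FlatTensor

variable {X Y Z : Scheme.{u}}

set_option maxHeartbeats 1000000 in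
/-- Flatness and non-vanishing of the fibre for `M ⊗ q^*G`, read on stalks. -/
theorem tensor_pullback_stalk (q : X ⟶ Y) (h : Y ⟶ Z) (M : X.Modules) (G : Y.Modules) (x : X)
    (hM : FlatMod.IsFlatOverAt q M x) :
    (FlatMod.IsFlatOverAt h G (q x) →
      FlatMod.IsFlatOverAt (q ≫ h) (CohB1.tensorMod M ((Scheme.Modules.pullback q).obj G)) x) ∧
    ((letI := FlatMod.moduleStalkOver q M x
      IsLocalRing.maximalIdeal (Y.presheaf.stalk (q x)) • (⊤ : Submodule (Y.presheaf.stalk (q x)) (M.presheaf.stalk x)) ≠ ⊤) →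
      FlatMod.IsFlatOverAt (q ≫ h) (CohB1.tensorMod M ((Scheme.Modules.pullback q).obj G)) x →
      FlatMod.IsFlatOverAt h G (q x)) ∧
    ((letI := FlatMod.moduleStalkOver h G (q x)
      IsLocalRing.maximalIdeal (Z.presheaf.stalk (h (q x))) • (⊤ : Submodule (Z.presheaf.stalk (h (q x))) (G.presheaf.stalk (q x))) = ⊤) →
      letI := FlatMod.moduleStalkOver (q ≫ h) (CohB1.tensorMod M ((Scheme.Modules.pullback q).obj G)) x
      IsLocalRing.maximalIdeal (Z.presheaf.stalk ((q ≫ h) x)) •
        (⊤ : Submodule (Z.presheaf.stalk ((q ≫ h) x))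
          ((CohB1.tensorMod M ((Scheme.Modules.pullback q).obj G)).presheaf.stalk x)) = ⊤) ∧
    ((letI := FlatMod.moduleStalkOver q M x
      IsLocalRing.maximalIdeal (Y.presheaf.stalk (q x)) • (⊤ : Submodule (Y.presheaf.stalk (q x)) (M.presheaf.stalk x)) ≠ ⊤) →
      (letI := FlatMod.moduleStalkOver h G (q x)
      IsLocalRing.maximalIdeal (Z.presheaf.stalk (h (q x))) • (⊤ : Submodule (Z.presheaf.stalk (h (q x))) (G.presheaf.stalk (q x))) ≠ ⊤) →
      letI := FlatMod.moduleStalkOver (q ≫ h) (CohB1.tensorMod M ((Scheme.Modules.pullback q).obj G)) x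
      IsLocalRing.maximalIdeal (Z.presheaf.stalk ((q ≫ h) x)) •
        (⊤ : Submodule (Z.presheaf.stalk ((q ≫ h) x))
          ((CohB1.tensorMod M ((Scheme.Modules.pullback q).obj G)).presheaf.stalk x)) ≠ ⊤) := by
  let C := Z.presheaf.stalk (h (q x))
  let B := Y.presheaf.stalk (q x)
  let S := X.presheaf.stalk x
  let T := (CohB1.tensorMod M ((Scheme.Modules.pullback q).obj G)).presheaf.stalk x
  let N := M.presheaf.stalk x
  let K := G.presheaf.stalk (q x)
  let : Algebra C B := (h.stalkMap (q x)).hom.toAlgebra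
  let : Algebra B S := (q.stalkMap x).hom.toAlgebra
  let : Algebra C S := ((q.stalkMap x).hom.comp (h.stalkMap (q x)).hom).toAlgebra
  have : IsScalarTower C B S := IsScalarTower.of_algebraMap_eq' rfl
  let : Module B N := FlatMod.moduleStalkOver q M x
  have : IsScalarTower B S N := IsScalarTower.of_algebraMap_smul fun _ _ => rfl
  let : Module C N := Module.compHom N (algebraMap C S)
  have : IsScalarTower C S N := IsScalarTower.of_algebraMap_smul fun _ _ => rfl
  have : IsScalarTower C B N := IsScalarTower.of_algebraMap_smul fun _ _ => rfl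
  let : Module C K := FlatMod.moduleStalkOver h G (q x)
  have : IsScalarTower C B K := IsScalarTower.of_algebraMap_smul fun _ _ => rfl
  let : Module C T := FlatMod.moduleStalkOver (q ≫ h) (CohB1.tensorMod M ((Scheme.Modules.pullback q).obj G)) x
  have : IsScalarTower C S T := IsScalarTower.of_algebraMap_smul fun c t => by
    show (q.stalkMap x).hom ((h.stalkMap (q x)).hom c) • t = ((q ≫ h).stalkMap x).hom c • t
    rw [Scheme.Hom.stalkMap_comp]; rfl
  let P := ((Scheme.Modules.pullback q).obj G).presheaf.stalk x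
  let e₁ : P ≃ₗ[S] S ⊗[B] K := ((QCoh.stalkPullbackIso q x).app G).toLinearEquiv
  let e₀ : T ≃ₗ[S] N ⊗[B] K :=
    Ref1.tensorStalk M ((Scheme.Modules.pullback q).obj G) x ≪≫ₗ
      TensorProduct.congr (LinearEquiv.refl S N) e₁ ≪≫ₗ
      AlgebraTensorModule.cancelBaseChange B S S N K
  let e : T ≃ₗ[C] N ⊗[B] K := e₀.restrictScalars C
  have : Module.Flat B N := hM
  have hloc : IsLocalHom (algebraMap B S) := inferInstanceAs (IsLocalHom (q.stalkMap x).hom)
  have hff : IsLocalRing.maximalIdeal B • (⊤ : Submodule B N) ≠ ⊤ → Module.FaithfullyFlat B N := fun hne =>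
    { toFlat := hM
      submodule_ne_top := fun m hm => by rw [IsLocalRing.eq_maximalIdeal hm]; exact hne }
  have hne : ∀ (I : Ideal C), I • (⊤ : Submodule C T) = ⊤ ↔ I • (⊤ : Submodule C (N ⊗[B] K)) = ⊤ := fun I => by
    rw [← (Submodule.map_injective_of_injective e.injective).eq_iff, Submodule.map_smul'',
      Submodule.map_top, LinearEquiv.range]
  refine ⟨fun hG => ?_, fun hN hT => ?_, fun hG => ?_, fun hN hG => ?_⟩
  · have : Module.Flat C K := hG
    have : Module.Flat C (N ⊗[B] K) := flat_tensor
    exact (Module.Flat.of_linearEquiv e : Module.Flat C T)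
  · have := hff hN
    have : Module.Flat C T := hT
    have : Module.Flat C (N ⊗[B] K) := Module.Flat.of_linearEquiv e.symm
    exact (flat_of_flat_tensor (B := B) (M := N) : Module.Flat C K)
  · exact (hne _).2 (smul_top_tensor (C := C) (B := B) (M := N) (G := K) hG)
  · have := hff hN
    exact fun ht => smul_top_tensor_ne_top (C := C) (B := B) (M := N) (G := K) hG ((hne _).1 ht)

end GrothLib.FlatTensor
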