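import Groth.Agent.Lib.FlatFP.BaseChangeAt
import Groth.Agent.Lib.FlatFP.Sheaf
import Mathlib.LinearAlgebra.Dual.Lemmas
import Mathlib.RingTheory.Ideal.Maximal

/-!
# A base change of a module with non-zero fibre has non-zero fibres
-/

set_option autoImplicit false
set_option backward.isDefEq.respectTransparency false
set_option linter.style.haveILetI false

universe u

open CategoryTheory AlgebraicGeometry TensorProduct

namespace GrothLib.FlatTensor

/-- The algebraic core: a functional to a field `κ'` over `p'` gives a prime over `p'` and an element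
of the base change with no multiple outside that prime in `p'` times the module. -/
theorem exists_prime_of_functional {A A' B B' M κ : Type u} [CommRing A] [CommRing A'] [CommRing B]
    [CommRing B'] [Field κ] [Algebra A A'] [Algebra A B] [Algebra A' B'] [Algebra B B'] [Algebra A B']
    [IsScalarTower A A' B'] [IsScalarTower A B B'] [Algebra.IsPushout A A' B B']
    [Algebra A' κ] [Algebra A κ] [IsScalarTower A A' κ]
    [AddCommGroup M] [Module B M] [Module A M] [IsScalarTower A B M]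
    (p' : Ideal A') [p'.IsPrime] (hp' : RingHom.ker (algebraMap A' κ) = p')
    (ψ : M →ₗ[A] κ) (hψ : ψ ≠ 0) :
    ∃ (Q : Ideal B') (_ : Q.IsPrime) (l₀ : B' ⊗[B] M) (J : Submodule B' (B' ⊗[B] M)),
      Q.comap (algebraMap A' B') = p' ∧ (∀ a ∈ p', ∀ l, algebraMap A' B' a • l ∈ J) ∧
        ∀ s ∉ Q, s • l₀ ∉ J := by
  haveI : SMulCommClass B A' B' := ⟨fun a b x => by
    rw [Algebra.smul_def, Algebra.smul_def, Algebra.smul_def, Algebra.smul_def, mul_left_comm]⟩
  haveI : IsScalarTower A' B' (B' ⊗[B] M) := TensorProduct.isScalarTower_left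
  let χ : B' ⊗[B] M →ₗ[A'] κ :=
    (ψ.liftBaseChange A').comp (Algebra.IsPushout.cancelBaseChange A A' B B' M).toLinearMap
  have hχ : χ ≠ 0 := fun h => hψ (LinearMap.ext fun m => by
    have := LinearMap.congr_fun h ((Algebra.IsPushout.cancelBaseChange A A' B B' M).symm (1 ⊗ₜ m))
    simpa [χ] using this)
  obtain ⟨l₀, hl₀⟩ : ∃ l, χ l ≠ 0 := by
    by_contra hc
    push Not at hc
    exact hχ (LinearMap.ext hc)
  let j : B' ⊗[B] M →ₗ[B'] (B' ⊗[B] M) ⊗[A'] κ := (TensorProduct.AlgebraTensorModule.mk A' B' (B' ⊗[B] M) κ).flip 1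
  have hj : j l₀ ≠ 0 := fun h => by
    have := congrArg (TensorProduct.lift ((LinearMap.mul A' κ).comp χ)) h
    simp [j] at this
    exact hl₀ this
  let I : Ideal B' := LinearMap.ker (LinearMap.toSpanSingleton B' _ (j l₀))
  have hker : ∀ a ∈ p', ∀ z : (B' ⊗[B] M) ⊗[A'] κ, a • z = 0 := by
    intro a ha z
    have ha' : algebraMap A' κ a = 0 := RingHom.mem_ker.1 (hp'.symm ▸ ha)
    induction z using TensorProduct.induction_on with
    | zero => rw [smul_zero]
    | tmul x c => rw [← TensorProduct.tmul_smul, Algebra.smul_def, ha', zero_mul, TensorProduct.tmul_zero]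
    | add x y hx hy => rw [smul_add, hx, hy, add_zero]
  have hinj : ∀ a ∉ p', ∀ z : (B' ⊗[B] M) ⊗[A'] κ, a • z = 0 → z = 0 := by
    intro a ha z hz
    have ha' : algebraMap A' κ a ≠ 0 := fun h => ha (hp' ▸ RingHom.mem_ker.2 h)
    let R : (B' ⊗[B] M) ⊗[A'] κ →ₗ[A'] (B' ⊗[B] M) ⊗[A'] κ :=
      LinearMap.lTensor _ ((algebraMap A' κ a)⁻¹ • LinearMap.id)
    have hR : ∀ w, R (a • w) = w := fun w => by
      induction w using TensorProduct.induction_on with
      | zero => simp
      | tmul x c =>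
        rw [← TensorProduct.tmul_smul]
        show x ⊗ₜ[A'] ((algebraMap A' κ a)⁻¹ • (a • c)) = _
        rw [Algebra.smul_def a c, smul_eq_mul, ← mul_assoc, inv_mul_cancel₀ ha', one_mul]
      | add x y hx hy => rw [smul_add, map_add, hx, hy]
    rw [← hR z, hz, map_zero]
  let S : Submonoid B' := p'.primeCompl.map (algebraMap A' B')
  have hdis : Disjoint (I : Set B') S := by
    rw [Set.disjoint_left]
    rintro _ hI ⟨a, ha, rfl⟩
    refine hj (hinj a ha _ ?_)
    rw [← algebraMap_smul B' a (j l₀)]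
    exact hI
  obtain ⟨Q, hQ, hIQ, hQS⟩ := Ideal.exists_le_prime_disjoint I S hdis
  refine ⟨Q, hQ, l₀, LinearMap.ker j, le_antisymm (fun a ha => ?_) (fun a ha => ?_), fun a ha l => ?_,
    fun s hs h => hs (hIQ ?_)⟩
  · by_contra hc
    exact Set.disjoint_left.1 hQS ha ⟨a, hc, rfl⟩
  · refine hIQ ?_
    show algebraMap A' B' a • j l₀ = 0
    rw [algebraMap_smul]
    exact hker a ha _
  · rw [LinearMap.mem_ker, map_smul, algebraMap_smul]
    exact hker a ha _
  · show s • j l₀ = 0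
    rw [← map_smul]
    exact h

variable {X Y X' Y' : Scheme.{u}}

set_option maxHeartbeats 1000000 in
/-- A point with non-zero fibre lifts to a point with non-zero fibre over any point of the new base. -/
theorem exists_point_ne_top {f : X ⟶ Y} {g : Y' ⟶ Y} {p : X' ⟶ X} {q : X' ⟶ Y'}
    (sq : IsPullback p q f g) (F : X.Modules) [F.IsQuasicoherent] (x : X) (y' : Y') (hxy : f x = g y')
    (hne : letI := FlatMod.moduleStalkOver f F x
      IsLocalRing.maximalIdeal (Y.presheaf.stalk (f x)) • (⊤ : Submodule (Y.presheaf.stalk (f x)) (F.presheaf.stalk x)) ≠ ⊤) :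
    ∃ x' : X', q x' = y' ∧
      letI := FlatMod.moduleStalkOver q ((Scheme.Modules.pullback p).obj F) x'
      IsLocalRing.maximalIdeal (Y'.presheaf.stalk (q x')) •
        (⊤ : Submodule (Y'.presheaf.stalk (q x')) (((Scheme.Modules.pullback p).obj F).presheaf.stalk x')) ≠ ⊤ := by
  obtain ⟨W, hW, hxW, -⟩ :=
    exists_isAffineOpen_mem_and_subset (show f x ∈ (⊤ : Y.Opens) from trivial)
  obtain ⟨U, hU, hxU, eU⟩ := exists_isAffineOpen_mem_and_subset (show x ∈ f ⁻¹ᵁ W from hxW)
  obtain ⟨W', hW', hyW', eV⟩ :=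
    exists_isAffineOpen_mem_and_subset (show y' ∈ g ⁻¹ᵁ W from (hxy ▸ hxW : g y' ∈ W))
  let P := p ⁻¹ᵁ U ⊓ q ⁻¹ᵁ W'
  have hP : IsAffineOpen P := FlatLimit.isAffineOpen_square sq eV eU hW hW' hU
  letI : Algebra Γ(Y, W) Γ(X, U) := (f.appLE W U eU).hom.toAlgebra
  letI : Algebra Γ(Y, W) Γ(Y', W') := (g.appLE W W' eV).hom.toAlgebra
  letI : Algebra Γ(Y', W') Γ(X', P) := (q.appLE W' P inf_le_right).hom.toAlgebra
  letI : Algebra Γ(X, U) Γ(X', P) := (p.appLE U P inf_le_left).hom.toAlgebra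
  letI : Algebra Γ(Y, W) Γ(X', P) :=
    ((algebraMap Γ(X, U) Γ(X', P)).comp (algebraMap Γ(Y, W) Γ(X, U))).toAlgebra
  haveI : IsScalarTower Γ(Y, W) Γ(X, U) Γ(X', P) := IsScalarTower.of_algebraMap_eq' rfl
  haveI : IsScalarTower Γ(Y, W) Γ(Y', W') Γ(X', P) := IsScalarTower.of_algebraMap_eq' (by
    show (p.appLE U P _).hom.comp (f.appLE W U _).hom =
      (q.appLE W' P _).hom.comp (g.appLE W W' _).hom
    rw [← CommRingCat.hom_comp, ← CommRingCat.hom_comp, Scheme.Hom.appLE_comp_appLE,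
      Scheme.Hom.appLE_comp_appLE]
    simp only [sq.w])
  haveI : Algebra.IsPushout Γ(Y, W) Γ(Y', W') Γ(X, U) Γ(X', P) :=
    FlatLimit.isPushout_square sq eV eU hW hW' hU rfl rfl rfl rfl
  letI : Module Γ(Y, W) Γ(F, U) := Module.compHom _ (algebraMap Γ(Y, W) Γ(X, U))
  haveI : IsScalarTower Γ(Y, W) Γ(X, U) Γ(F, U) := IsScalarTower.of_algebraMap_smul fun _ _ => rfl
  let R := Y.presheaf.stalk (f x)
  let R' := Y'.presheaf.stalk y'
  letI : Module R (F.presheaf.stalk x) := FlatMod.moduleStalkOver f F x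
  let φ : R →+* R' := (g.stalkMap y').hom.comp (Y.presheaf.stalkCongr (.of_eq hxy)).hom.hom
  haveI : IsLocalHom φ := by
    haveI : IsLocalHom (Y.presheaf.stalkCongr (.of_eq hxy)).hom.hom := isLocalHom_of_isIso _
    exact RingHom.isLocalHom_comp _ _
  let m := IsLocalRing.maximalIdeal R
  letI : Field (R ⧸ m) := Ideal.Quotient.field m
  let κ := R' ⧸ IsLocalRing.maximalIdeal R'
  letI : Field κ := Ideal.Quotient.field _
  let ι : R ⧸ m →+* κ := Ideal.quotientMap _ φ fun a ha => map_nonunit φ a ha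
  letI : Algebra Γ(Y', W') κ :=
    ((Ideal.Quotient.mk (IsLocalRing.maximalIdeal R')).comp (Y'.presheaf.germ W' y' hyW').hom).toAlgebra
  letI : Algebra Γ(Y, W) κ := ((algebraMap Γ(Y', W') κ).comp (algebraMap Γ(Y, W) Γ(Y', W'))).toAlgebra
  haveI : IsScalarTower Γ(Y, W) Γ(Y', W') κ := IsScalarTower.of_algebraMap_eq' rfl
  let Qt := F.presheaf.stalk x ⧸ m • (⊤ : Submodule R (F.presheaf.stalk x))
  haveI : Nontrivial Qt := Submodule.Quotient.nontrivial_iff.2 hne
  obtain ⟨z₀, hn₀⟩ : ∃ z : Γ(F, U), (Submodule.Quotient.mk (F.presheaf.germ U x hxU z) : Qt) ≠ 0 := by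
    by_contra hall
    push Not at hall
    refine hne (eq_top_iff.2 fun n _ => ?_)
    obtain ⟨c, z, hc, hz⟩ := WeakAss.exists_smul_eq_germ hU hxU n
    obtain ⟨u, hu⟩ : IsUnit (X.presheaf.germ U x hxU c) :=
      (Scheme.mem_basicOpen _ c x hxU).mp (WeakAss.notMem_primeAt_iff.mp hc)
    have hm : F.presheaf.germ U x hxU z ∈ m • (⊤ : Submodule R (F.presheaf.stalk x)) :=
      (Submodule.Quotient.mk_eq_zero _).1 (hall z)
    have hn : n = (↑u⁻¹ : X.presheaf.stalk x) • F.presheaf.germ U x hxU z := by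
      rw [← hz, ← hu, smul_smul, Units.inv_mul, one_smul]
    rw [hn]
    refine Submodule.smul_induction_on hm (fun r hr w _ => ?_)
      (fun a b ha hb => by rw [smul_add]; exact add_mem ha hb)
    show (↑u⁻¹ : X.presheaf.stalk x) • (f.stalkMap x).hom r • w ∈ _
    rw [smul_comm]
    exact Submodule.smul_mem_smul (show r ∈ IsLocalRing.maximalIdeal R from hr)
      (Submodule.mem_top (x := (↑u⁻¹ : X.presheaf.stalk x) • w))
  obtain ⟨lam, hlam⟩ := Module.Projective.exists_dual_eq_one (R ⧸ m) hn₀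
  have hgerm : ∀ a : Γ(Y, W), φ (Y.presheaf.germ W (f x) hxW a) =
      Y'.presheaf.germ W' y' hyW' (g.appLE W W' eV a) := by
    intro a
    show (g.stalkMap y') ((Y.presheaf.stalkCongr (.of_eq hxy)).hom (Y.presheaf.germ W (f x) hxW a)) = _
    rw [TopCat.Presheaf.stalkCongr_hom, TopCat.Presheaf.germ_stalkSpecializes_apply,
      Scheme.Hom.germ_stalkMap_apply]
    exact (TopCat.Presheaf.germ_res_apply Y'.presheaf (homOfLE eV) y' hyW' _).symm
  let ψ : Γ(F, U) →ₗ[Γ(Y, W)] κ :=
    { toFun := fun z => ι (lam (Submodule.Quotient.mk (F.presheaf.germ U x hxU z)))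
      map_add' := fun a b => by rw [map_add, Submodule.Quotient.mk_add, map_add, map_add]
      map_smul' := fun a z => by
        have h1 : F.presheaf.germ U x hxU (a • z) =
            Y.presheaf.germ W (f x) hxW a • F.presheaf.germ U x hxU z := by
          show F.presheaf.germ U x hxU (f.appLE W U eU a • z) =
            (f.stalkMap x).hom (Y.presheaf.germ W (f x) hxW a) • F.presheaf.germ U x hxU z
          rw [WeakAss.germ_smul hxU]
          congr 1
          show _ = (f.stalkMap x) (Y.presheaf.germ W (f x) hxW a)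
          rw [Scheme.Hom.germ_stalkMap_apply]
          exact TopCat.Presheaf.germ_res_apply X.presheaf (homOfLE eU) x hxU _
        rw [h1, Submodule.Quotient.mk_smul, RingHom.id_apply]
        rw [show (Y.presheaf.germ W (f x) hxW a • Submodule.Quotient.mk (F.presheaf.germ U x hxU z) : Qt) =
          Ideal.Quotient.mk m (Y.presheaf.germ W (f x) hxW a) • Submodule.Quotient.mk (F.presheaf.germ U x hxU z)
          from rfl, map_smul, smul_eq_mul, map_mul, Ideal.quotientMap_mk, hgerm]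
        exact (Algebra.smul_def (R := Γ(Y, W)) (A := κ) a _).symm }
  have hψ : ψ ≠ 0 := fun h => by
    have h1 : ι (lam (Submodule.Quotient.mk (F.presheaf.germ U x hxU z₀))) = 0 := LinearMap.congr_fun h z₀
    rw [hlam, map_one] at h1
    exact one_ne_zero h1
  obtain ⟨Q, hQ, l₀, J, hQc, hJ, hl₀⟩ := exists_prime_of_functional (A := Γ(Y, W)) (A' := Γ(Y', W')) (B := Γ(X, U))
    (B' := Γ(X', P)) (M := Γ(F, U)) (κ := κ) (WeakAss.primeAt y' hyW') (by
      ext a
      rw [RingHom.mem_ker]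
      show Ideal.Quotient.mk _ (Y'.presheaf.germ W' y' hyW' a) = 0 ↔ _
      rw [Ideal.Quotient.eq_zero_iff_mem]
      rfl) ψ hψ
  let x' : X' := hP.fromSpec ⟨Q, hQ⟩
  have hx' : x' ∈ P := WeakAss.fromSpec_mem hP _
  have hQx : WeakAss.primeAt x' hx' = Q := WeakAss.primeAt_fromSpec hP _ hx'
  have hqx : q x' = y' := by
    have h1 : hW'.primeIdealOf ⟨q x', hx'.2⟩ = hW'.primeIdealOf ⟨y', hyW'⟩ := by
      rw [← QCoh.primeAt_eq_primeIdealOf hW' hx'.2, ← QCoh.primeAt_eq_primeIdealOf hW' hyW']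
      refine PrimeSpectrum.ext ?_
      show WeakAss.primeAt (q x') _ = WeakAss.primeAt y' hyW'
      rw [← hQc, ← hQx]
      exact (AssPts.comap_primeAt q (inf_le_right : P ≤ q ⁻¹ᵁ W') hx').symm
    have := congrArg hW'.fromSpec h1
    rwa [hW'.fromSpec_primeIdealOf, hW'.fromSpec_primeIdealOf] at this
  refine ⟨x', hqx, ?_⟩
  let T := ((Scheme.Modules.pullback p).obj F).presheaf.stalk x'
  let R₁ := Y'.presheaf.stalk (q x')
  letI : Module R₁ T := FlatMod.moduleStalkOver q ((Scheme.Modules.pullback p).obj F) x'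
  letI : Module Γ(X', P) T := Module.compHom _ (X'.presheaf.germ P x' hx').hom
  obtain ⟨γ, hγ⟩ := FlatFP.exists_isLocalizedModule_pullback p F hU hP inf_le_left hx' rfl
  intro htop
  have hmem : γ l₀ ∈ IsLocalRing.maximalIdeal R₁ • (⊤ : Submodule R₁ T) := htop.ge Submodule.mem_top
  have key : ∃ s ∉ Q, ∃ l ∈ J, s • γ l₀ = γ l := by
    refine Submodule.smul_induction_on (p := fun n : T => ∃ s ∉ Q, ∃ l ∈ J, s • n = γ l) hmem
      (fun c hc n _ => ?_) ?_
    · letI := Y'.presheaf.algebra_section_stalk ⟨q x', hx'.2⟩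
      haveI := FlatFP.isLocalization_stalk_primeAt hW' hx'.2
      obtain ⟨⟨a, t⟩, hat⟩ := IsLocalization.surj (WeakAss.primeAt (q x') hx'.2).primeCompl c
      obtain ⟨⟨l, s⟩, hls⟩ := IsLocalizedModule.surj (WeakAss.primeAt x' hx').primeCompl γ n
      have ha : a ∈ WeakAss.primeAt (q x') hx'.2 := by
        show Y'.presheaf.germ W' (q x') hx'.2 a ∈ IsLocalRing.maximalIdeal R₁
        rw [show Y'.presheaf.germ W' (q x') hx'.2 a = algebraMap Γ(Y', W') R₁ a from rfl, ← hat]
        exact Ideal.mul_mem_right _ _ hc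
      have hq : (WeakAss.primeAt (q x') hx'.2) = Q.comap (algebraMap Γ(Y', W') Γ(X', P)) := by
        rw [← hQx]
        exact (AssPts.comap_primeAt q (inf_le_right : P ≤ q ⁻¹ᵁ W') hx').symm
      have hcompat : ∀ (b : Γ(Y', W')) (w : T), algebraMap Γ(Y', W') Γ(X', P) b • w =
          algebraMap Γ(Y', W') R₁ b • w := fun b w => by
        show X'.presheaf.germ P x' hx' (q.appLE W' P inf_le_right b) • w =
          (q.stalkMap x') (Y'.presheaf.germ W' (q x') hx'.2 b) • w
        rw [Scheme.Hom.germ_stalkMap_apply]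
        congr 1
        exact TopCat.Presheaf.germ_res_apply X'.presheaf (homOfLE _) x' hx' _
      refine ⟨algebraMap Γ(Y', W') Γ(X', P) t * s, ?_, algebraMap Γ(Y', W') Γ(X', P) a • l,
        hJ a ((SetLike.ext_iff.1 hQc _).1 ((SetLike.ext_iff.1 hq _).1 ha)) l, ?_⟩
      · refine hQ.mul_notMem (fun h => t.2 ((SetLike.ext_iff.1 hq _).2 h))
          (fun h => s.2 ((SetLike.ext_iff.1 hQx _).2 h))
      · rw [mul_smul, map_smul, ← hls, hcompat a, ← hat]
        show algebraMap Γ(Y', W') Γ(X', P) t • (s : Γ(X', P)) • c • n = (c * algebraMap Γ(Y', W') R₁ t) • ((s : Γ(X', P)) • n)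
        rw [mul_smul, ← hcompat]
        show X'.presheaf.germ P x' hx' _ • X'.presheaf.germ P x' hx' _ • (q.stalkMap x') c • n =
          (q.stalkMap x') c • X'.presheaf.germ P x' hx' _ • X'.presheaf.germ P x' hx' _ • n
        rw [smul_comm (X'.presheaf.germ P x' hx' s) ((q.stalkMap x') c) n, smul_comm]
    · rintro a b ⟨s, hs, l, hl, h⟩ ⟨s', hs', l', hl', h'⟩
      refine ⟨s * s', hQ.mul_notMem hs hs', s' • l + s • l', add_mem (J.smul_mem _ hl) (J.smul_mem _ hl'), ?_⟩
      rw [map_add, map_smul, map_smul, ← h, ← h', smul_smul, smul_smul, mul_comm s' s, smul_add]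
  obtain ⟨s, hs, l, hl, h⟩ := key
  rw [← map_smul] at h
  obtain ⟨v, hv⟩ := IsLocalizedModule.exists_of_eq (S := (WeakAss.primeAt x' hx').primeCompl) (f := γ) h
  refine hl₀ ((v : Γ(X', P)) * s) (hQ.mul_notMem (fun h => v.2 ((SetLike.ext_iff.1 hQx _).2 h)) hs) ?_
  rw [mul_smul]
  show v • (s • l₀) ∈ J
  rw [hv]
  exact J.smul_mem _ hl

end GrothLib.FlatTensor
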